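import Mathlib
import Cfsg.Agent.Invol.SectionOrth
import Cfsg.Agent.BlkChar.PModular
import Cfsg.Agent.Brauer.CharBasics
import Cfsg.Agent.Char.Orthogonality
import Cfsg.Agent.Char.Virtual
import Cfsg.Agent.Char.Kernel
import Cfsg.Agent.Char.Linear

/-!
# The section of an involution with centralizer of type `2 × A₄` modulo its core

For an involution `t` whose centralizer `C` has a normal subgroup `K` of odd order with quotient
of order 24, a character `ψ` of order 3 and an odd subgroup `U` of order `3|K|`, we attach to each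
irreducible character of `G` three integers and prove their orthogonality relations.
-/

set_option autoImplicit false
set_option linter.unusedSectionVars false
set_option linter.style.haveILetI false

open scoped ComplexConjugate

namespace Cfsg.Agent.EightAuto

open Subgroup Cfsg

universe u

variable {G : Type u} [Group G]

/-- The local data at the involution `t`. -/
structure Cfg (t : G) (C K U : Subgroup G) (ψ : C →* ℂˣ) : Prop where
  hC : C = centralizer ({t} : Set G)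
  ht : orderOf t = 2
  hKC : K ≤ C
  hKn : ∀ c ∈ C, ∀ k ∈ K, c * k * c⁻¹ ∈ K
  hKodd : Odd (Nat.card K)
  hUC : U ≤ C
  hKU : K ≤ U
  hU : Nat.card U = 3 * Nat.card K
  hCc : Nat.card C = 24 * Nat.card K
  hψ3 : ∀ c, ψ c ^ 3 = 1
  hψK : ∀ c : C, Odd (orderOf c) → (ψ c = 1 ↔ (c : G) ∈ K)
  hcov : ∀ c : C, Odd (orderOf c) → ∃ g ∈ C, g * c * g⁻¹ ∈ U
  hfix : ∀ u ∈ U, u ∉ K → Nat.card {g : G // g ∈ C ∧ g * u * g⁻¹ ∈ U} = 6 * Nat.card K

open scoped Classical in
/-- The values of `ψ`, extended by zero. -/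
noncomputable def pv (C : Subgroup G) (ψ : C →* ℂˣ) (x : G) : ℂ :=
  if h : x ∈ C then (ψ ⟨x, h⟩ : ℂ) else 0

open scoped Classical in
/-- The elements of `U` as a finite set. -/
noncomputable def fset [Fintype G] (U : Subgroup G) : Finset G :=
  Finset.univ.filter (fun x => x ∈ U)

theorem mem_fset [Fintype G] {U : Subgroup G} {x : G} : x ∈ fset U ↔ x ∈ U := by
  simp [fset]

theorem card_fset [Fintype G] (U : Subgroup G) : (fset U).card = Nat.card U := by
  classical
  rw [Nat.card_eq_fintype_card, fset, Fintype.card_subtype]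

/-- The twisted sum of a character over the coset `t U`. -/
noncomputable def cval [Fintype G] (t : G) (C U : Subgroup G) (ψ : C →* ℂˣ) (i : ℕ)
    (χ : IrrCharacter G) : ℂ :=
  -((Nat.card U : ℂ)⁻¹ * ∑ u ∈ fset U, pv C ψ u ^ (2 * i) * (χ : G → ℂ) (t * u))

theorem sum_irr_mul_conj_eq_card [Fintype G] [DecidableEq G] (g h : G) :
    ∑ χ : IrrCharacter G, (χ : G → ℂ) g * conj ((χ : G → ℂ) h)
      = ((Finset.univ.filter fun x : G => x * g * x⁻¹ = h).card : ℂ) := by
  classical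
  rw [Char.sum_irr_mul_conj]
  by_cases hc : IsConj g h
  · rw [if_pos hc]
    obtain ⟨y, hy⟩ := isConj_iff.1 hc
    norm_cast
    rw [Nat.card_eq_fintype_card, ← Fintype.card_subtype]
    refine Fintype.card_congr
      { toFun := fun z => ⟨y * z, ?_⟩
        invFun := fun x => ⟨y⁻¹ * x, ?_⟩
        left_inv := fun z => Subtype.ext (by simp)
        right_inv := fun x => Subtype.ext (by simp) }
    · have hz := mem_centralizer_singleton_iff.1 z.2
      calc y * (z : G) * g * (y * (z : G))⁻¹ = y * ((z : G) * g) * (z : G)⁻¹ * y⁻¹ := by group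
        _ = y * (g * (z : G)) * (z : G)⁻¹ * y⁻¹ := by rw [hz]
        _ = h := by rw [← hy]; group
    · rw [mem_centralizer_singleton_iff]
      calc y⁻¹ * (x : G) * g = y⁻¹ * ((x : G) * g * (x : G)⁻¹) * x := by group
        _ = y⁻¹ * (y * g * y⁻¹) * x := by rw [x.2, hy]
        _ = g * (y⁻¹ * x) := by group
  · rw [if_neg hc, Finset.filter_false_of_mem (fun x _ hx => hc (isConj_iff.2 ⟨x, hx⟩))]
    simp

variable [Fintype G] {t : G} {C K U : Subgroup G} {ψ : C →* ℂˣ}

theorem Cfg.tsq (h : Cfg t C K U ψ) : t * t = 1 := by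
  rw [← pow_two, ← h.ht, pow_orderOf_eq_one]

theorem Cfg.odd_U (h : Cfg t C K U ψ) : Odd (Nat.card U) := by
  rw [h.hU]
  exact (by decide : Odd 3).mul h.hKodd

theorem Cfg.mem_C_iff (h : Cfg t C K U ψ) {x : G} : x ∈ C ↔ x * t = t * x := by
  rw [h.hC, mem_centralizer_singleton_iff]

theorem Cfg.comm (h : Cfg t C K U ψ) {x : G} (hx : x ∈ C) : Commute t x :=
  (h.mem_C_iff.1 hx).symm

theorem Cfg.odd_orderOf (h : Cfg t C K U ψ) {u : G} (hu : u ∈ U) : Odd (orderOf u) :=
  h.odd_U.of_dvd_nat (Subgroup.orderOf_dvd_natCard U hu)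

theorem pv_apply {x : G} (hx : x ∈ C) : pv C ψ x = (ψ ⟨x, hx⟩ : ℂ) := by
  rw [pv, dif_pos hx]

theorem pv_mul {x y : G} (hx : x ∈ C) (hy : y ∈ C) :
    pv C ψ (x * y) = pv C ψ x * pv C ψ y := by
  rw [pv_apply hx, pv_apply hy, pv_apply (mul_mem hx hy), ← Units.val_mul, ← map_mul]
  rfl

theorem pv_conj {g x : G} (hg : g ∈ C) (hx : x ∈ C) : pv C ψ (g * x * g⁻¹) = pv C ψ x := by
  rw [pv_apply hx, pv_apply (mul_mem (mul_mem hg hx) (inv_mem hg))]
  congr 1
  rw [show (⟨g * x * g⁻¹, mul_mem (mul_mem hg hx) (inv_mem hg)⟩ : C)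
      = ⟨g, hg⟩ * ⟨x, hx⟩ * (⟨g, hg⟩ : C)⁻¹ from Subtype.ext rfl, map_mul, map_mul, map_inv,
    mul_inv_cancel_comm]

theorem Cfg.pv_cube (h : Cfg t C K U ψ) {x : G} (hx : x ∈ C) : pv C ψ x ^ 3 = 1 := by
  rw [pv_apply hx, ← Units.val_pow_eq_pow_val, h.hψ3, Units.val_one]

theorem Cfg.conj_pv (h : Cfg t C K U ψ) {x : G} (hx : x ∈ C) :
    conj (pv C ψ x) = pv C ψ x ^ 2 := by
  have h3 := h.pv_cube hx
  set z := pv C ψ x
  have hn : ‖z‖ = 1 := by
    have h1 : ‖z‖ ^ 3 = 1 := by rw [← norm_pow, h3, norm_one]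
    exact (pow_eq_one_iff_of_nonneg (norm_nonneg z) (by norm_num)).1 h1
  have h2 : conj z * z = 1 := by
    rw [← Complex.normSq_eq_conj_mul_self, Complex.normSq_eq_norm_sq, hn]
    norm_num
  calc conj z = conj z * z ^ 3 := by rw [h3, mul_one]
    _ = (conj z * z) * z ^ 2 := by ring
    _ = z ^ 2 := by rw [h2, one_mul]

theorem Cfg.pv_eq_one_iff (h : Cfg t C K U ψ) {x : G} (hx : x ∈ C) (ho : Odd (orderOf x)) :
    pv C ψ x = 1 ↔ x ∈ K := by
  rw [pv_apply hx, Units.val_eq_one]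
  exact h.hψK ⟨x, hx⟩ (by rwa [← orderOf_coe])

theorem Cfg.pv_K (h : Cfg t C K U ψ) {x : G} (hx : x ∈ K) : pv C ψ x = 1 :=
  (h.pv_eq_one_iff (h.hKC hx) (h.odd_orderOf (h.hKU hx))).2 hx

theorem Cfg.sum_K (h : Cfg t C K U ψ) (m : ℕ) :
    ∑ u ∈ fset K, pv C ψ u ^ m = (Nat.card K : ℂ) := by
  rw [Finset.sum_congr rfl (g := fun _ => (1 : ℂ))
    (fun u hu => by rw [h.pv_K (mem_fset.1 hu), one_pow]), Finset.sum_const, card_fset,
    nsmul_eq_mul, mul_one]

theorem Cfg.exists_mem_notMem (h : Cfg t C K U ψ) : ∃ u ∈ U, u ∉ K := by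
  by_contra hcon
  push_neg at hcon
  have h1 : Nat.card U ≤ Nat.card K :=
    Subgroup.card_le_of_le (fun x hx => hcon x hx)
  have h2 := h.hU
  have h3 : 0 < Nat.card K := Nat.card_pos
  omega

theorem Cfg.sum_U (h : Cfg t C K U ψ) (m : ℕ) :
    ∑ u ∈ fset U, pv C ψ u ^ m = if 3 ∣ m then (Nat.card U : ℂ) else 0 := by
  split_ifs with hm
  · obtain ⟨k, rfl⟩ := hm
    rw [Finset.sum_congr rfl (g := fun _ => (1 : ℂ))
      (fun u hu => by rw [pow_mul, h.pv_cube (h.hUC (mem_fset.1 hu)), one_pow]),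
      Finset.sum_const, card_fset, nsmul_eq_mul, mul_one]
  · obtain ⟨u₀, hu₀, hu₀K⟩ := h.exists_mem_notMem
    have hne : pv C ψ u₀ ^ m ≠ 1 := by
      intro he
      apply hu₀K
      refine (h.pv_eq_one_iff (h.hUC hu₀) (h.odd_orderOf hu₀)).1 ?_
      have h3 := h.pv_cube (h.hUC hu₀)
      have hcop : Nat.Coprime m 3 :=
        ((Nat.Prime.coprime_iff_not_dvd Nat.prime_three).2 hm).symm
      have := pow_gcd_eq_one.2 ⟨he, h3⟩
      rwa [hcop.gcd_eq_one, pow_one] at this
    set T := ∑ u ∈ fset U, pv C ψ u ^ m with hT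
    have h1 : pv C ψ u₀ ^ m * T = T := by
      rw [hT, Finset.mul_sum]
      refine Finset.sum_equiv (Equiv.mulLeft u₀) (fun u => ?_) (fun u hu => ?_)
      · simp only [mem_fset, Equiv.coe_mulLeft]
        exact (U.mul_mem_cancel_left hu₀).symm
      · simp only [Equiv.coe_mulLeft]
        rw [← mul_pow, ← pv_mul (h.hUC hu₀) (h.hUC (mem_fset.1 hu))]
    have h2 : (pv C ψ u₀ ^ m - 1) * T = 0 := by rw [sub_mul, h1, one_mul, sub_self]
    exact (mul_eq_zero.1 h2).resolve_left (sub_ne_zero.2 hne)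

theorem Cfg.pow_card (h : Cfg t C K U ψ) {u : G} (hu : u ∈ U) :
    (t * u) ^ Nat.card U = t := by
  rw [(h.comm (h.hUC hu)).mul_pow]
  obtain ⟨k, hk⟩ := h.odd_U
  have h1 : u ^ Nat.card U = 1 := by
    obtain ⟨j, hj⟩ := Subgroup.orderOf_dvd_natCard U hu
    rw [hj, pow_mul, pow_orderOf_eq_one, one_pow]
  have h2 : t ^ Nat.card U = t := by
    rw [hk, pow_succ, pow_mul, pow_two, h.tsq, one_pow, one_mul]
  rw [h1, h2, mul_one]

theorem Cfg.conj_mem_iff (h : Cfg t C K U ψ) {u v : G} (hu : u ∈ U) (hv : v ∈ U) (x : G) :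
    x * (t * u) * x⁻¹ = t * v ↔ x ∈ C ∧ x * u * x⁻¹ = v := by
  constructor
  · intro he
    have h1 : x * t * x⁻¹ = t := by
      have h2 := congrArg (fun y => y ^ Nat.card U) he
      simp only [conj_pow, h.pow_card hu, h.pow_card hv] at h2
      exact h2
    have hx : x ∈ C := h.mem_C_iff.2 (mul_inv_eq_iff_eq_mul.1 h1)
    refine ⟨hx, ?_⟩
    have h3 : x * (t * u) * x⁻¹ = t * (x * u * x⁻¹) := by
      calc x * (t * u) * x⁻¹ = (x * t * x⁻¹) * (x * u * x⁻¹) := by group
        _ = _ := by rw [h1]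
    rw [h3] at he
    exact mul_left_cancel he
  · rintro ⟨hx, rfl⟩
    calc x * (t * u) * x⁻¹ = (x * t) * u * x⁻¹ := by group
      _ = (t * x) * u * x⁻¹ := by rw [h.mem_C_iff.1 hx]
      _ = t * (x * u * x⁻¹) := by group

theorem Cfg.card_fix_K (h : Cfg t C K U ψ) {u : G} (hu : u ∈ K) :
    Nat.card {g : G // g ∈ C ∧ g * u * g⁻¹ ∈ U} = 24 * Nat.card K := by
  rw [← h.hCc]
  exact Nat.card_congr (Equiv.subtypeEquivRight fun g =>
    ⟨fun hg => hg.1, fun hg => ⟨hg, h.hKU (h.hKn g hg u hu)⟩⟩)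

open scoped Classical in
/-- Transferring sums over the elements of odd order of `C` to `U`. -/
theorem Cfg.sum_odd (h : Cfg t C K U ψ) (f : G → ℂ)
    (hf : ∀ g ∈ C, ∀ x ∈ C, f (g * x * g⁻¹) = f x) :
    ∑ v ∈ Finset.univ.filter (fun v => v ∈ C ∧ ¬ 2 ∣ orderOf v), f v
      = 4 * ∑ u ∈ fset U, f u - 3 * ∑ u ∈ fset K, f u := by
  set O := Finset.univ.filter (fun v => v ∈ C ∧ ¬ 2 ∣ orderOf v) with hO
  have hmemO : ∀ v, v ∈ O ↔ v ∈ C ∧ Odd (orderOf v) := fun v => by
    simp [hO, Nat.odd_iff, Nat.two_dvd_ne_zero]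
  have hKO : fset K ⊆ O := fun v hv =>
    (hmemO v).2 ⟨h.hKC (mem_fset.1 hv), h.odd_orderOf (h.hKU (mem_fset.1 hv))⟩
  have hKU : fset K ⊆ fset U := fun v hv => mem_fset.2 (h.hKU (mem_fset.1 hv))
  have hk0 : (Nat.card K : ℂ) ≠ 0 := Nat.cast_ne_zero.2 Nat.card_pos.ne'
  rw [← Finset.sum_sdiff hKO, ← Finset.sum_sdiff hKU]
  suffices hs : ∑ v ∈ O \ fset K, f v = 4 * ∑ u ∈ fset U \ fset K, f u by rw [hs]; ring
  have hL : ∑ p ∈ (fset U \ fset K) ×ˢ fset C, f (p.2 * p.1 * p.2⁻¹)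
      = (24 * (Nat.card K : ℂ)) * ∑ u ∈ fset U \ fset K, f u := by
    rw [Finset.sum_product, Finset.mul_sum]
    refine Finset.sum_congr rfl fun u hu => ?_
    rw [Finset.sum_congr rfl (g := fun _ => f u) (fun g hg => hf g (mem_fset.1 hg) u
        (h.hUC (mem_fset.1 (Finset.mem_sdiff.1 hu).1))), Finset.sum_const, card_fset, h.hCc,
      nsmul_eq_mul]
    push_cast
    ring
  have hmap : ∀ p ∈ (fset U \ fset K) ×ˢ fset C, p.2 * p.1 * p.2⁻¹ ∈ O \ fset K := by
    rintro ⟨u, g⟩ hp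
    simp only [Finset.mem_product, Finset.mem_sdiff, mem_fset] at hp ⊢
    refine ⟨(hmemO _).2 ⟨mul_mem (mul_mem hp.2 (h.hUC hp.1.1)) (inv_mem hp.2), ?_⟩, fun hK => ?_⟩
    · rw [show orderOf (g * u * g⁻¹) = orderOf u from (MulAut.conj g).orderOf_eq u]
      exact h.odd_orderOf hp.1.1
    · apply hp.1.2
      have := h.hKn g⁻¹ (inv_mem hp.2) _ hK
      simpa [mul_assoc] using this
  have hfib : ∀ v ∈ O \ fset K,
      ((((fset U \ fset K) ×ˢ fset C).filter fun p => p.2 * p.1 * p.2⁻¹ = v).card : ℂ)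
        = 6 * (Nat.card K : ℂ) := by
    intro v hv
    rw [Finset.mem_sdiff, mem_fset, hmemO] at hv
    obtain ⟨g₀, hg₀, hu₀⟩ := h.hcov ⟨v, hv.1.1⟩ (by rw [← orderOf_coe]; exact hv.1.2)
    have hu₀K : g₀ * v * g₀⁻¹ ∉ K := fun hK => hv.2 (by
      have := h.hKn g₀⁻¹ (inv_mem hg₀) _ hK
      simpa [mul_assoc] using this)
    have hc := h.hfix _ hu₀ hu₀K
    rw [show (6 : ℂ) * (Nat.card K : ℂ) = ((6 * Nat.card K : ℕ) : ℂ) by push_cast; ring, ← hc,
      Nat.card_eq_fintype_card, Fintype.card_subtype]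
    norm_cast
    refine Finset.card_bij' (fun p _ => p.2⁻¹ * g₀⁻¹)
      (fun x _ => (x * (g₀ * v * g₀⁻¹) * x⁻¹, g₀⁻¹ * x⁻¹)) ?_ ?_ ?_ ?_
    · rintro ⟨u, g⟩ hp
      simp only [Finset.mem_filter, Finset.mem_product, Finset.mem_sdiff, mem_fset] at hp
      simp only [Finset.mem_filter, Finset.mem_univ, true_and]
      refine ⟨mul_mem (inv_mem hp.1.2) (inv_mem hg₀), ?_⟩
      rw [show g⁻¹ * g₀⁻¹ * (g₀ * v * g₀⁻¹) * (g⁻¹ * g₀⁻¹)⁻¹ = g⁻¹ * v * g by group, ← hp.2,
        show g⁻¹ * (g * u * g⁻¹) * g = u by group]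
      exact hp.1.1.1
    · intro x hx
      simp only [Finset.mem_filter, Finset.mem_univ, true_and] at hx
      simp only [Finset.mem_filter, Finset.mem_product, Finset.mem_sdiff, mem_fset]
      refine ⟨⟨⟨hx.2, fun hK => hu₀K ?_⟩, mul_mem (inv_mem hg₀) (inv_mem hx.1)⟩, by group⟩
      have := h.hKn x⁻¹ (inv_mem hx.1) _ hK
      simpa [mul_assoc] using this
    · rintro ⟨u, g⟩ hp
      simp only [Finset.mem_filter, Finset.mem_product, Finset.mem_sdiff, mem_fset] at hp
      simp only [Prod.mk.injEq]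
      exact ⟨by rw [← hp.2]; group, by group⟩
    · intro x _
      group
  have hR : ∑ p ∈ (fset U \ fset K) ×ˢ fset C, f (p.2 * p.1 * p.2⁻¹)
      = (6 * (Nat.card K : ℂ)) * ∑ v ∈ O \ fset K, f v := by
    rw [← Finset.sum_fiberwise_of_maps_to hmap, Finset.mul_sum]
    refine Finset.sum_congr rfl fun v hv => ?_
    rw [Finset.sum_congr rfl (g := fun _ => f v) (fun p hp => by rw [(Finset.mem_filter.1 hp).2]),
      Finset.sum_const, nsmul_eq_mul, hfib v hv]
  rw [hL] at hR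
  apply mul_left_cancel₀ (mul_ne_zero (by norm_num : (6 : ℂ) ≠ 0) hk0)
  rw [← hR]
  ring

open scoped Classical in
/-- The sums vanish outside the principal block and give the value at `t` inside. -/
theorem Cfg.value (h : Cfg t C K U ψ) (χ : IrrCharacter G) :
    (∀ i, i < 3 → cval t C U ψ i χ = 0) ∨
      cval t C U ψ 0 χ + cval t C U ψ 1 χ + cval t C U ψ 2 χ = -(χ : G → ℂ) t := by
  obtain ⟨M, hM⟩ := BlkChar.exists_isPModular 2 Nat.prime_two
  haveI : M.IsPrime := hM.2.1.isPrime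
  set f : G → ℂ := fun x => (χ : G → ℂ) (t * x) with hf
  set A := ∑ k ∈ fset K, f k with hA
  set X : ℕ → ℂ := fun j => ∑ u ∈ fset U, pv C ψ u ^ (2 * j) * f u with hX
  have hk0 : (Nat.card K : ℂ) ≠ 0 := Nat.cast_ne_zero.2 Nat.card_pos.ne'
  have hU0 : (Nat.card U : ℂ) = 3 * (Nat.card K : ℂ) := by rw [h.hU]; push_cast; rfl
  have hcv : ∀ i, cval t C U ψ i χ = -((Nat.card U : ℂ)⁻¹ * X i) := fun i => rfl
  have hKU : fset K ⊆ fset U := fun v hv => mem_fset.2 (h.hKU (mem_fset.1 hv))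
  have hXsum : X 0 + X 1 + X 2 = 3 * A := by
    simp only [hX, hA, ← Finset.sum_add_distrib]
    rw [← Finset.sum_sdiff hKU, Finset.sum_eq_zero (s := fset U \ fset K), zero_add,
      Finset.mul_sum]
    · refine Finset.sum_congr rfl fun u hu => ?_
      rw [h.pv_K (mem_fset.1 hu)]
      ring
    · intro u hu
      rw [Finset.mem_sdiff, mem_fset, mem_fset] at hu
      have hC' := h.hUC hu.1
      have hne : pv C ψ u ≠ 1 := fun he =>
        hu.2 ((h.pv_eq_one_iff hC' (h.odd_orderOf hu.1)).1 he)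
      have h3 := h.pv_cube hC'
      have hq : pv C ψ u ^ 2 + pv C ψ u + 1 = 0 := by
        have : (pv C ψ u - 1) * (pv C ψ u ^ 2 + pv C ψ u + 1) = 0 := by linear_combination h3
        exact (mul_eq_zero.1 this).resolve_left (sub_ne_zero.2 hne)
      linear_combination (f u) * hq + (pv C ψ u * f u) * h3
  by_cases hχ : χ ∈ principalBlock M G
  · right
    have hval : A = (Nat.card K : ℂ) * (χ : G → ℂ) t := by
      rw [hA, Finset.sum_congr rfl (g := fun _ => (χ : G → ℂ) t) (fun k hk => ?_),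
        Finset.sum_const, card_fset, nsmul_eq_mul]
      refine Brauer.principalBlock_apply_mul hM (k := 1) (by rw [h.ht, pow_one]) K
        (h.hC ▸ h.hKC) (fun c hc v hv => h.hKn c (h.hC ▸ hc) v hv)
        (fun hd => (Nat.not_even_iff_odd.2 h.hKodd) (even_iff_two_dvd.2 hd)) hχ (mem_fset.1 hk)
    rw [hcv, hcv, hcv, hU0]
    rw [hval] at hXsum
    field_simp
    linear_combination -hXsum
  · left
    haveI : Fintype C := Fintype.ofFinite _
    have hkey : ∀ j, j < 3 → 4 * X j = 3 * A := by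
      intro j _
      set η : IrrCharacter C := ⟨fun c => (((ψ ^ j) c : ℂˣ) : ℂ),
        Char.isIrrCharacter_monoidHom (ψ ^ j)⟩ with hη
      have hsub : ∀ g : C → ℂ, (∑ v : C, if 2 ∣ orderOf v then 0 else g v)
          = ∑ v ∈ Finset.univ.filter (fun v => v ∈ C ∧ ¬ 2 ∣ orderOf v),
              (if hv : v ∈ C then g ⟨v, hv⟩ else 0) := by
        intro g
        rw [Finset.sum_ite, Finset.sum_const_zero, zero_add]
        refine Finset.sum_bij (fun v _ => (v : G)) ?_ (fun a _ b _ he => Subtype.ext he) ?_ ?_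
        · intro v hv
          simp only [Finset.mem_filter, Finset.mem_univ, true_and] at hv ⊢
          exact ⟨v.2, by rwa [orderOf_coe]⟩
        · intro v hv
          simp only [Finset.mem_filter, Finset.mem_univ, true_and] at hv
          exact ⟨⟨v, hv.1⟩, Finset.mem_filter.2 ⟨Finset.mem_univ _, by
            rw [← orderOf_coe]; exact hv.2⟩, rfl⟩
        · intro v _
          rw [dif_pos v.2]
      have hηv : ∀ x : C, (η : C → ℂ) x = pv C ψ x ^ j := fun x => by
        rw [pv_apply x.2]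
        show (((ψ ^ j) x : ℂˣ) : ℂ) = _
        rw [MonoidHom.pow_apply, Units.val_pow_eq_pow_val]
      have hb : η ∈ principalBlock M C := by
        rw [Brauer.mem_principalBlock_iff_regSum hM]
        have hη1 : (η : C → ℂ) 1 = 1 := by
          show (((ψ ^ j) (1 : C) : ℂˣ) : ℂ) = 1
          rw [map_one, Units.val_one]
        rw [hη1, div_one]
        have hreg : Brauer.regSum 2 (η : C → ℂ) (fun _ => 1)
            = ((if 3 ∣ j then 9 * (Nat.card K : ℤ) else -3 * (Nat.card K : ℤ) : ℤ) : ℂ) := by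
          rw [Brauer.regSum]
          have := hsub (fun v => (η : C → ℂ) v)
          rw [Finset.sum_filter]
          have e1 : (∑ x : C, if ¬ 2 ∣ orderOf x then (η : C → ℂ) x * conj (1 : ℂ) else 0)
              = ∑ v : C, if 2 ∣ orderOf v then 0 else (η : C → ℂ) v := by
            refine Finset.sum_congr rfl fun x _ => ?_
            rw [map_one, mul_one, ite_not]
          rw [e1, this, Finset.sum_congr rfl (g := fun v => pv C ψ v ^ j) (fun v hv => by
              rw [dif_pos (Finset.mem_filter.1 hv).2.1, hηv]),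
            h.sum_odd _ (fun g hg x hx => by rw [pv_conj hg hx]), h.sum_U, h.sum_K, hU0]
          split_ifs <;> push_cast <;> ring
        rw [hreg, Block.memLocalIdeal_intCast_iff hM]
        intro hd
        have hodd := h.hKodd
        rw [Nat.odd_iff] at hodd
        split_ifs at hd <;> omega
      have hs := Invol.sectionOrth hM (k := 1) (by rw [h.ht, pow_one]) C h.hC χ η
        (fun he => hχ (he.2 hb))
      rw [hsub (fun v => (χ : G → ℂ) (t * v) * conj ((η : C → ℂ) v))] at hs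
      rw [Finset.sum_congr rfl (g := fun v => pv C ψ v ^ (2 * j) * f v) (fun v hv => by
          rw [dif_pos (Finset.mem_filter.1 hv).2.1, hηv, map_pow,
            h.conj_pv (Finset.mem_filter.1 hv).2.1, ← pow_mul]; ring),
        h.sum_odd _ (fun g hg x hx => ?_),
        Finset.sum_congr rfl (s₁ := fset K) (g := f) (fun v hv => by
          rw [h.pv_K (mem_fset.1 hv), one_pow, one_mul])] at hs
      · linear_combination hs
      · rw [pv_conj hg hx, hf]
        show _ * (χ : G → ℂ) (t * (g * x * g⁻¹)) = _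
        rw [show t * (g * x * g⁻¹) = g * (t * x) * g⁻¹ by
          rw [← mul_assoc, ← mul_assoc, (h.comm hg).eq]; group]
        rw [Char.irr_isClassFunction χ.2]
    have h0 := hkey 0 (by norm_num)
    have h1 := hkey 1 (by norm_num)
    have h2 := hkey 2 (by norm_num)
    have hA0 : A = 0 := by linear_combination (1 / 3 : ℂ) * (h0 + h1 + h2) - (4 / 3 : ℂ) * hXsum
    intro i hi
    have hi' := hkey i hi
    rw [hA0, mul_zero] at hi'
    rw [hcv, (mul_eq_zero.1 hi').resolve_left (by norm_num), mul_zero, neg_zero]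

open scoped Classical in
theorem Cfg.exists_int (h : Cfg t C K U ψ) (i : ℕ) (χ : IrrCharacter G) :
    ∃ n : ℤ, cval t C U ψ i χ = n := by
  have hcomm : ∀ (a : zpowers t) (b : U), Commute ((zpowers t).subtype a) (U.subtype b) := by
    rintro ⟨a, ha⟩ ⟨b, hb⟩
    obtain ⟨k, rfl⟩ := mem_zpowers_iff.1 ha
    exact (h.comm (h.hUC hb)).zpow_left k
  set Φ : zpowers t × U →* G := MonoidHom.noncommCoprod (zpowers t).subtype U.subtype hcomm
    with hΦ
  set θ : U →* ℂˣ := (ψ ^ i).comp (Subgroup.inclusion h.hUC) with hθ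
  haveI : Fintype U := Fintype.ofFinite _
  haveI : Fintype (zpowers t) := Fintype.ofFinite _
  have hθv : ∀ u : U, conj ((θ u : ℂˣ) : ℂ) = pv C ψ u ^ (2 * i) := by
    intro u
    have e : ((θ u : ℂˣ) : ℂ) = pv C ψ u ^ i := by
      rw [pv_apply (h.hUC u.2), hθ, MonoidHom.comp_apply, MonoidHom.pow_apply,
        Units.val_pow_eq_pow_val]
      rfl
    rw [e, map_pow, h.conj_pv (h.hUC u.2), ← pow_mul]
  obtain ⟨n₀, hn₀⟩ := Char.isCharacter_classInner_nat
    (Char.isCharacter_comp (Char.isCharacter_of_irr χ.2) Φ)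
    (⟨fun x => ((θ.comp (MonoidHom.snd (zpowers t) U)) x : ℂ),
      Char.isIrrCharacter_monoidHom _⟩ : IrrCharacter (zpowers t × U))
  obtain ⟨m, hm⟩ := Char.isCharacter_classInner_nat
    (Char.isCharacter_restrict (Char.isCharacter_of_irr χ.2) U)
    (⟨fun x => (θ x : ℂ), Char.isIrrCharacter_monoidHom _⟩ : IrrCharacter U)
  refine ⟨(m : ℤ) - 2 * n₀, ?_⟩
  push_cast
  rw [← hn₀, ← hm]
  have hU : ∀ g : G → ℂ, ∑ u ∈ fset U, g u = ∑ u : U, g u := fun g =>
    Finset.sum_subtype _ (fun u => mem_fset) g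
  have hz : ∀ g : G → ℂ, ∑ a : zpowers t, g a = g 1 + g t := by
    intro g
    rw [← Finset.sum_subtype (s := ({1, t} : Finset G)) (p := fun a => a ∈ zpowers t)
      (fun a => ?_) g, Finset.sum_pair (fun e => by
        have := h.ht; rw [← e, orderOf_one] at this; norm_num at this)]
    simp only [Finset.mem_insert, Finset.mem_singleton]
    constructor
    · rintro (rfl | rfl)
      · exact one_mem _
      · exact mem_zpowers a
    · intro ha
      obtain ⟨k, rfl⟩ := mem_zpowers_iff.1 ha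
      rw [← zpow_mod_orderOf, h.ht]
      rcases Int.emod_two_eq_zero_or_one k with e | e
      · left; push_cast; rw [e, zpow_zero]
      · right; push_cast; rw [e, zpow_one]
  have hne : (Nat.card U : ℂ) ≠ 0 := Nat.cast_ne_zero.2 Nat.card_pos.ne'
  rw [cval, hU, classInner, classInner, Fintype.sum_prod_type, Finset.sum_comm, Nat.card_prod,
    Nat.card_zpowers, h.ht]
  have e0 : ∀ u : U, ∑ a : zpowers t, (fun g => (χ : G → ℂ) g) (Φ (a, u)) *
      conj (((θ.comp (MonoidHom.snd (zpowers t) U)) (a, u) : ℂˣ) : ℂ)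
      = pv C ψ (u : G) ^ (2 * i) * (χ : G → ℂ) (t * u)
        + pv C ψ (u : G) ^ (2 * i) * (χ : G → ℂ) u := by
    intro u
    have := hz (fun a => (χ : G → ℂ) (a * u) * pv C ψ (u : G) ^ (2 * i))
    rw [one_mul] at this
    rw [show ∀ (x y : ℂ), pv C ψ (u : G) ^ (2 * i) * x + pv C ψ (u : G) ^ (2 * i) * y
      = y * pv C ψ (u : G) ^ (2 * i) + x * pv C ψ (u : G) ^ (2 * i) from fun x y => by ring,
      ← this]
    refine Finset.sum_congr rfl fun a _ => ?_
    rw [MonoidHom.comp_apply, MonoidHom.coe_snd, hθv, hΦ, MonoidHom.noncommCoprod_apply]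
    rfl
  simp only [Function.comp_apply]
  rw [Finset.sum_congr rfl (fun u _ => e0 u), Finset.sum_add_distrib]
  rw [Finset.sum_congr rfl (g := fun u : U => pv C ψ (u : G) ^ (2 * i) * (χ : G → ℂ) u)
    (f := fun u : U => (χ : G → ℂ) u * conj ((θ u : ℂˣ) : ℂ))
    (fun u _ => by rw [hθv, mul_comm])]
  push_cast
  field_simp
  ring

end Cfsg.Agent.EightAuto
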