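import Mathlib
import Cfsg.Agent.EightAuto.Setup
import Cfsg.Agent.CycPairs.Galois

/-!
# No simple group with involution centralizer of type `2 × A₄` modulo its core and one class

The integers of `EightAuto.Setup` have Gram matrix `4,2,2`; the class multiplication relation
between two of them contradicts the congruences for the degrees.
-/

set_option autoImplicit false
set_option linter.unusedSectionVars false

open scoped ComplexConjugate

namespace Cfsg.Agent.EightAuto

open Subgroup Cfsg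

universe u

variable {G : Type u} [Group G] [Fintype G] {t : G} {C K U : Subgroup G} {ψ : C →* ℂˣ}

open scoped Classical in
theorem Cfg.gram (h : Cfg t C K U ψ) (i j : ℕ) :
    ∑ χ : IrrCharacter G, cval t C U ψ i χ * conj (cval t C U ψ j χ)
      = if 3 ∣ 2 * i + j then 4 else 2 := by
  have hU0 : (Nat.card U : ℂ) = 3 * (Nat.card K : ℂ) := by rw [h.hU]; push_cast; rfl
  have hk0 : (Nat.card K : ℂ) ≠ 0 := Nat.cast_ne_zero.2 Nat.card_pos.ne'
  have hKU : fset K ⊆ fset U := fun v hv => mem_fset.2 (h.hKU (mem_fset.1 hv))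
  have hcount : ∀ u ∈ fset U, ∑ v ∈ fset U, pv C ψ u ^ (2 * i) * pv C ψ v ^ j *
      ((Finset.univ.filter fun x : G => x * (t * u) * x⁻¹ = t * v).card : ℂ)
      = pv C ψ u ^ (2 * i + j) * (Nat.card {g : G // g ∈ C ∧ g * u * g⁻¹ ∈ U} : ℂ) := by
    intro u hu
    rw [Nat.card_eq_fintype_card, Fintype.card_subtype]
    have hmap : ∀ g ∈ Finset.univ.filter (fun g : G => g ∈ C ∧ g * u * g⁻¹ ∈ U),
        g * u * g⁻¹ ∈ fset U := fun g hg => mem_fset.2 (Finset.mem_filter.1 hg).2.2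
    rw [Finset.card_eq_sum_card_fiberwise hmap, Nat.cast_sum, Finset.mul_sum]
    refine Finset.sum_congr rfl fun v hv => ?_
    have hset : (Finset.univ.filter fun x : G => x * (t * u) * x⁻¹ = t * v)
        = (Finset.univ.filter (fun g : G => g ∈ C ∧ g * u * g⁻¹ ∈ U)).filter
            (fun g => g * u * g⁻¹ = v) := by
      ext x
      simp only [Finset.mem_filter, Finset.mem_univ, true_and,
        h.conj_mem_iff (mem_fset.1 hu) (mem_fset.1 hv)]
      exact ⟨fun hx => ⟨⟨hx.1, hx.2.symm ▸ mem_fset.1 hv⟩, hx.2⟩, fun hx => ⟨hx.1.1, hx.2⟩⟩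
    rw [hset]
    by_cases he : ((Finset.univ.filter (fun g : G => g ∈ C ∧ g * u * g⁻¹ ∈ U)).filter
        (fun g => g * u * g⁻¹ = v)).Nonempty
    · obtain ⟨g, hg⟩ := he
      simp only [Finset.mem_filter, Finset.mem_univ, true_and] at hg
      rw [← hg.2, pv_conj hg.1.1 (h.hUC (mem_fset.1 hu)), pow_add]
    · rw [Finset.not_nonempty_iff_eq_empty.1 he]
      simp
  calc ∑ χ : IrrCharacter G, cval t C U ψ i χ * conj (cval t C U ψ j χ)
      = ∑ χ : IrrCharacter G, (Nat.card U : ℂ)⁻¹ * (Nat.card U : ℂ)⁻¹ *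
          ∑ u ∈ fset U, ∑ v ∈ fset U, pv C ψ u ^ (2 * i) * pv C ψ v ^ j *
            ((χ : G → ℂ) (t * u) * conj ((χ : G → ℂ) (t * v))) := by
        refine Finset.sum_congr rfl fun χ _ => ?_
        rw [cval, cval, map_neg, map_mul, map_inv₀, map_natCast, map_sum, neg_mul_neg,
          mul_mul_mul_comm, Finset.sum_mul_sum]
        refine congrArg _ (Finset.sum_congr rfl fun u _ => Finset.sum_congr rfl fun v hv => ?_)
        have hvC := h.hUC (mem_fset.1 hv)
        rw [map_mul, map_pow, h.conj_pv hvC, ← pow_mul,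
          show 2 * (2 * j) = 3 * j + j by ring, pow_add, pow_mul _ 3 j, h.pv_cube hvC, one_pow,
          one_mul]
        ring
    _ = (Nat.card U : ℂ)⁻¹ * (Nat.card U : ℂ)⁻¹ * ∑ u ∈ fset U,
          pv C ψ u ^ (2 * i + j) * (Nat.card {g : G // g ∈ C ∧ g * u * g⁻¹ ∈ U} : ℂ) := by
        rw [← Finset.mul_sum]
        refine congrArg _ ?_
        rw [Finset.sum_comm]
        refine Finset.sum_congr rfl fun u hu => ?_
        rw [Finset.sum_comm, ← hcount u hu]
        refine Finset.sum_congr rfl fun v _ => ?_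
        rw [← Finset.mul_sum, sum_irr_mul_conj_eq_card]
    _ = _ := by
        rw [← Finset.sum_sdiff hKU,
          Finset.sum_congr rfl (s₁ := fset U \ fset K)
            (g := fun u => pv C ψ u ^ (2 * i + j) * ((6 * Nat.card K : ℕ) : ℂ)) (fun u hu => by
              rw [Finset.mem_sdiff, mem_fset, mem_fset] at hu
              rw [h.hfix u hu.1 hu.2]),
          Finset.sum_congr rfl (s₁ := fset K)
            (g := fun _ => ((24 * Nat.card K : ℕ) : ℂ)) (fun u hu => by
              rw [h.pv_K (mem_fset.1 hu), one_pow, one_mul, h.card_fix_K (mem_fset.1 hu)]),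
          ← Finset.sum_mul, Finset.sum_const, card_fset, nsmul_eq_mul,
          Finset.sum_sdiff_eq_sub hKU, h.sum_U, h.sum_K, hU0]
        push_cast
        split_ifs
        · field_simp
          ring
        · field_simp
          ring

open scoped Classical in
theorem Cfg.sum_degree (h : Cfg t C K U ψ) (i : ℕ) :
    ∑ χ : IrrCharacter G, cval t C U ψ i χ * (χ : G → ℂ) 1 = 0 := by
  have h1 : ∀ χ : IrrCharacter G, (χ : G → ℂ) 1 = conj ((χ : G → ℂ) 1) := fun χ => by
    obtain ⟨d, -, hd⟩ := Char.irr_one_pos χ.2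
    rw [hd, map_natCast]
  simp only [cval, neg_mul, mul_assoc, Finset.sum_mul, Finset.mul_sum, Finset.sum_neg_distrib]
  rw [Finset.sum_comm, neg_eq_zero]
  refine Finset.sum_eq_zero fun u hu => ?_
  rw [← Finset.mul_sum, ← Finset.mul_sum, Finset.sum_congr rfl (fun χ _ => by rw [h1 χ]),
    sum_irr_mul_conj_eq_card, Finset.filter_false_of_mem (fun x _ hx => ?_)]
  · simp
  · rw [conj_eq_one_iff] at hx
    have := h.pow_card (mem_fset.1 hu)
    rw [hx, one_pow] at this
    have h2 := h.ht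
    rw [← this, orderOf_one] at h2
    norm_num at h2

open scoped Classical in
theorem Cfg.sum_sq (h : Cfg t C K U ψ) (i : ℕ) :
    ∑ χ : IrrCharacter G, cval t C U ψ i χ * (χ : G → ℂ) t ^ 2 / (χ : G → ℂ) 1
      = ∑ χ : IrrCharacter G, cval t C U ψ 0 χ * (χ : G → ℂ) t ^ 2 / (χ : G → ℂ) 1 := by
  have hG : (Nat.card G : ℂ) ≠ 0 := Nat.cast_ne_zero.2 Nat.card_pos.ne'
  set R : G → ℂ := fun u =>
    ∑ χ : IrrCharacter G, (χ : G → ℂ) (t * u) * ((χ : G → ℂ) t ^ 2 / (χ : G → ℂ) 1) with hR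
  have hexp : ∀ i, ∑ χ : IrrCharacter G, cval t C U ψ i χ * (χ : G → ℂ) t ^ 2 / (χ : G → ℂ) 1
      = -((Nat.card U : ℂ)⁻¹ * ∑ u ∈ fset U, pv C ψ u ^ (2 * i) * R u) := by
    intro i
    simp only [hR, Finset.mul_sum]
    rw [Finset.sum_comm, ← Finset.sum_neg_distrib]
    refine Finset.sum_congr rfl fun χ _ => ?_
    rw [cval, mul_div_assoc, neg_mul, Finset.mul_sum, Finset.sum_mul]
    refine congrArg _ (Finset.sum_congr rfl fun u _ => ?_)
    ring
  have hzero : ∀ u ∈ fset U, u ∉ K → R u = 0 := by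
    intro u hu huK
    have hu' := mem_fset.1 hu
    have hterm : ∀ χ : IrrCharacter G, (χ : G → ℂ) t ^ 2 / (χ : G → ℂ) 1
        = (Nat.card G : ℂ)⁻¹ * ∑ y : G, conj ((χ : G → ℂ) (y * t * y⁻¹ * t)⁻¹) := fun χ => by
      rw [Finset.sum_congr rfl (g := fun y => (χ : G → ℂ) (y * t * y⁻¹ * t)) (fun y _ => by
        rw [← Char.irr_inv χ.2, inv_inv]), Brauer.irr_conj_sum' χ.2 t t, mul_assoc, mul_div_assoc,
        ← mul_assoc, inv_mul_cancel₀ hG, one_mul, pow_two]
    rw [hR]
    simp only [hterm, Finset.mul_sum]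
    rw [Finset.sum_comm]
    refine Finset.sum_eq_zero fun y _ => ?_
    rw [Finset.sum_congr rfl (g := fun χ : IrrCharacter G => (Nat.card G : ℂ)⁻¹ *
        ((χ : G → ℂ) (t * u) * conj ((χ : G → ℂ) (y * t * y⁻¹ * t)⁻¹))) (fun χ _ => by ring),
      ← Finset.mul_sum, sum_irr_mul_conj_eq_card, Finset.filter_false_of_mem (fun x _ hx => ?_)]
    · simp
    -- a product of two involutions conjugate to `t u` makes `u` inverted inside `C`
    · apply huK
      have htt := h.tsq
      have htinv : t⁻¹ = t := inv_eq_of_mul_eq_one_left htt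
      have hx' : t * u = (x⁻¹ * t * x) * (x⁻¹ * (y * t * y⁻¹) * x) := by
        have : t * u = x⁻¹ * (y * t * y⁻¹ * t)⁻¹ * x := by rw [← hx]; group
        rw [this, mul_inv_rev, mul_inv_rev, mul_inv_rev, inv_inv, htinv]
        group
      obtain ⟨a, ha⟩ : ∃ a, a = x⁻¹ * t * x := ⟨_, rfl⟩
      obtain ⟨b, hb⟩ : ∃ b, b = x⁻¹ * (y * t * y⁻¹) * x := ⟨_, rfl⟩
      rw [← ha, ← hb] at hx'
      have haa : a * a = 1 := by
        rw [ha, show x⁻¹ * t * x * (x⁻¹ * t * x) = x⁻¹ * (t * t) * x by group, htt]; group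
      have hbb : b * b = 1 := by
        rw [hb, show x⁻¹ * (y * t * y⁻¹) * x * (x⁻¹ * (y * t * y⁻¹) * x)
          = x⁻¹ * y * (t * t) * y⁻¹ * x by group, htt]; group
      have hainv : a⁻¹ = a := inv_eq_of_mul_eq_one_left haa
      have hbinv : b⁻¹ = b := inv_eq_of_mul_eq_one_left hbb
      have hflip : a * (t * u) * a⁻¹ = (t * u)⁻¹ := by
        rw [hx', mul_inv_rev, hainv, hbinv, ← mul_assoc a a b, haa, one_mul]
      have hat : a * t * a⁻¹ = t := by
        have h2 := congrArg (fun z => z ^ Nat.card U) hflip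
        simp only [conj_pow, inv_pow, h.pow_card hu', htinv] at h2
        exact h2
      have haC : a ∈ C := h.mem_C_iff.2 (mul_inv_eq_iff_eq_mul.1 hat)
      have huC := h.hUC hu'
      have hau : a * u * a⁻¹ = u⁻¹ := by
        have h2 : a * (t * u) * a⁻¹ = t * (a * u * a⁻¹) := by
          calc a * (t * u) * a⁻¹ = (a * t * a⁻¹) * (a * u * a⁻¹) := by group
            _ = _ := by rw [hat]
        rw [h2, mul_inv_rev, htinv, ← (h.comm (inv_mem huC)).eq] at hflip
        exact mul_left_cancel hflip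
      have e : pv C ψ u⁻¹ = pv C ψ u := by rw [← hau, pv_conj haC huC]
      have e2 : pv C ψ u * pv C ψ u = 1 := by
        calc pv C ψ u * pv C ψ u = pv C ψ u⁻¹ * pv C ψ u := by rw [e]
          _ = pv C ψ (u⁻¹ * u) := (pv_mul (inv_mem huC) huC).symm
          _ = 1 := by rw [inv_mul_cancel]; exact h.pv_K (one_mem K)
      refine (h.pv_eq_one_iff huC (h.odd_orderOf hu')).1 ?_
      have h3 := h.pv_cube huC
      linear_combination h3 - (pv C ψ u) * e2
  rw [hexp i, hexp 0]
  congr 2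
  refine Finset.sum_congr rfl fun u hu => ?_
  by_cases huK : u ∈ K
  · rw [h.pv_K huK, one_pow, one_pow]
  · rw [hzero u hu huK, mul_zero, mul_zero]

open scoped Classical in
theorem Cfg.cval_trivial (h : Cfg t C K U ψ) (i : ℕ) :
    cval t C U ψ i (Char.trivialIrr G) = if 3 ∣ i then -1 else 0 := by
  have hU : (Nat.card U : ℂ) ≠ 0 := Nat.cast_ne_zero.2 Nat.card_pos.ne'
  rw [cval, Finset.sum_congr rfl (g := fun u => pv C ψ u ^ (2 * i)) (fun u _ => by
    show _ * (1 : ℂ) = _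
    rw [mul_one]), h.sum_U]
  rcases eq_or_ne (i % 3) 0 with hi | hi
  · rw [if_pos (by omega), if_pos (by omega), inv_mul_cancel₀ hU]
  · rw [if_neg (by omega), if_neg (by omega), mul_zero, neg_zero]

/-- The arithmetic contradiction. -/
theorem false_of_numerics {ι : Type*} [Fintype ι] [DecidableEq ι] (o : ι) (c₀ c₁ c₂ l : ι → ℤ)
    (d : ι → ℕ) (ho : c₀ o = -1 ∧ c₁ o = 0 ∧ l o = 1 ∧ d o = 1)
    (h00 : ∑ i, c₀ i * c₀ i = 4) (h11 : ∑ i, c₁ i * c₁ i = 4) (h01 : ∑ i, c₀ i * c₁ i = 2)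
    (h22 : ∑ i, c₂ i * c₂ i = 4)
    (hd0 : ∑ i, c₀ i * (d i : ℤ) = 0) (hd1 : ∑ i, c₁ i * (d i : ℤ) = 0)
    (hd2 : ∑ i, c₂ i * (d i : ℤ) = 0)
    (hsq : ∑ i, (c₁ i : ℝ) * (l i : ℝ) ^ 2 / d i = ∑ i, (c₀ i : ℝ) * (l i : ℝ) ^ 2 / d i)
    (hdpos : ∀ i, 1 ≤ d i) (hd2le : ∀ i, i ≠ o → 2 ≤ d i)
    (hl : ∀ i, (c₀ i ≠ 0 ∨ c₁ i ≠ 0) → l i = -(c₀ i + c₁ i + c₂ i))
    (hcong : ∀ i, (c₀ i ≠ 0 ∨ c₁ i ≠ 0) → i ≠ o →
      (8 : ℤ) ∣ (d i : ℤ) - l i ∧ 0 ≤ (d i : ℤ) + 7 * l i ∧ (d i : ℤ) ≠ l i) : False := by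
  have hbd : ∀ c : ι → ℤ, ∑ i, c i * c i = 4 → ∑ i, c i * (d i : ℤ) = 0 → ∀ i, |c i| ≤ 1 := by
    intro c hc hcd i
    by_contra hi
    have h4 : 4 ≤ c i * c i := by
      rw [not_le] at hi
      nlinarith [sq_abs (c i)]
    have hrest : ∀ j, j ≠ i → c j = 0 := by
      intro j hj
      have h5 : ∑ k ∈ ({i, j} : Finset ι), c k * c k ≤ ∑ k, c k * c k :=
        Finset.sum_le_sum_of_subset_of_nonneg (Finset.subset_univ _)
          (fun k _ _ => mul_self_nonneg _)
      rw [Finset.sum_pair (Ne.symm hj), hc] at h5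
      nlinarith [mul_self_nonneg (c j)]
    rw [Finset.sum_eq_single i (fun j _ hj => by rw [hrest j hj, zero_mul])
      (fun h => absurd (Finset.mem_univ i) h)] at hcd
    have h6 := hdpos i
    rcases mul_eq_zero.1 hcd with h7 | h7
    · rw [h7] at h4; norm_num at h4
    · omega
  set e : ι → ℤ := fun i => c₀ i - c₁ i with he
  have hee : ∑ i ∈ Finset.univ.erase o, e i * e i = 3 := by
    have h1 : ∑ i, e i * e i = 4 := by
      have : ∀ i, e i * e i = c₀ i * c₀ i - 2 * (c₀ i * c₁ i) + c₁ i * c₁ i := fun i => by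
        simp only [he]; ring
      rw [Finset.sum_congr rfl fun i _ => this i, Finset.sum_add_distrib, Finset.sum_sub_distrib,
        ← Finset.mul_sum, h00, h01, h11]
      norm_num
    rw [← Finset.sum_erase_add _ _ (Finset.mem_univ o)] at h1
    simp only [he, ho.1, ho.2.1] at h1 ⊢
    linarith
  have hed : ∑ i ∈ Finset.univ.erase o, e i * (d i : ℤ) = 1 := by
    have h1 : ∑ i, e i * (d i : ℤ) = 0 := by
      simp only [he, sub_mul, Finset.sum_sub_distrib, hd0, hd1, sub_zero]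
    rw [← Finset.sum_erase_add _ _ (Finset.mem_univ o)] at h1
    simp only [he, ho.1, ho.2.1, ho.2.2.2] at h1 ⊢
    push_cast at h1
    linarith
  have hel : ∑ i ∈ Finset.univ.erase o, (e i : ℝ) * ((l i : ℝ) ^ 2 / d i) = 1 := by
    have h1 : ∑ i, (e i : ℝ) * ((l i : ℝ) ^ 2 / d i) = 0 := by
      simp only [he, Int.cast_sub, sub_mul, Finset.sum_sub_distrib]
      simp only [mul_div_assoc] at hsq
      rw [hsq, sub_self]
    rw [← Finset.sum_erase_add _ _ (Finset.mem_univ o)] at h1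
    simp only [he, ho.1, ho.2.1, ho.2.2.1, ho.2.2.2] at h1 ⊢
    push_cast at h1 ⊢
    linarith
  have hfrac : ∀ i, i ≠ o → e i ≠ 0 → (l i : ℝ) ^ 2 / d i ≤ 2 / 5 := by
    intro i hio hei
    have hor : c₀ i ≠ 0 ∨ c₁ i ≠ 0 := by
      by_contra hcon
      rw [not_or, not_not, not_not] at hcon
      exact hei (by simp [he, hcon.1, hcon.2])
    obtain ⟨⟨k, hk⟩, hpos, hne⟩ := hcong i hor hio
    have hlv := hl i hor
    have b0 := abs_le.1 (hbd c₀ h00 hd0 i)
    have b1 := abs_le.1 (hbd c₁ h11 hd1 i)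
    have b2 := abs_le.1 (hbd c₂ h22 hd2 i)
    have hei' : c₀ i ≠ c₁ i := fun h => hei (by simp [he, h])
    have hl2 : l i = -2 ∨ l i = -1 ∨ l i = 0 ∨ l i = 1 ∨ l i = 2 := by omega
    have key : 5 * l i ^ 2 ≤ 2 * (d i : ℤ) := by
      rcases hl2 with h | h | h | h | h <;> rw [h] at hk hpos hne ⊢ <;> norm_num <;> omega
    have hdR : (0 : ℝ) < d i := by exact_mod_cast hdpos i
    rw [div_le_div_iff₀ hdR (by norm_num)]
    have : ((5 * l i ^ 2 : ℤ) : ℝ) ≤ ((2 * (d i : ℤ) : ℤ) : ℝ) := by exact_mod_cast key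
    push_cast at this
    linarith
  set P := (Finset.univ.erase o).filter fun i => 0 < e i with hP
  have hge : (5 : ℝ) ≤ 2 * ((∑ i ∈ P, e i * e i : ℤ) : ℝ) := by
    have h1 : ∑ i ∈ Finset.univ.erase o, (e i : ℝ) * ((l i : ℝ) ^ 2 / d i)
        ≤ ∑ i ∈ Finset.univ.erase o, if 0 < e i then (2 / 5 : ℝ) * ((e i * e i : ℤ) : ℝ) else 0 := by
      refine Finset.sum_le_sum fun i hi => ?_
      have hq : (0 : ℝ) ≤ (l i : ℝ) ^ 2 / d i := by positivity
      split_ifs with hpos
      · have h2 := hfrac i (Finset.ne_of_mem_erase hi) hpos.ne'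
        have h3 : (e i : ℝ) ≤ ((e i * e i : ℤ) : ℝ) := by
          exact_mod_cast (show e i ≤ e i * e i by nlinarith)
        have h4 : (0 : ℝ) < e i := by exact_mod_cast hpos
        nlinarith
      · exact mul_nonpos_of_nonpos_of_nonneg (by exact_mod_cast not_lt.1 hpos) hq
    rw [hel, ← Finset.sum_filter, ← hP, ← Finset.mul_sum] at h1
    push_cast at h1 ⊢
    linarith
  have hle : ∑ i ∈ P, e i * e i ≤ 3 := by
    rw [← hee]
    exact Finset.sum_le_sum_of_subset_of_nonneg (Finset.filter_subset _ _)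
      (fun k _ _ => mul_self_nonneg _)
  have h3 : ∑ i ∈ P, e i * e i = 3 := by
    have : (5 : ℤ) ≤ 2 * ∑ i ∈ P, e i * e i := by exact_mod_cast hge
    omega
  have hzero : ∀ i ∈ Finset.univ.erase o, i ∉ P → e i = 0 := by
    intro i hi hiP
    by_contra hei
    have h4 : ∑ k ∈ insert i P, e k * e k ≤ 3 := by
      rw [← hee]
      exact Finset.sum_le_sum_of_subset_of_nonneg
        (Finset.insert_subset hi (Finset.filter_subset _ _)) (fun k _ _ => mul_self_nonneg _)
    rw [Finset.sum_insert hiP, h3] at h4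
    have : 0 < e i * e i := mul_self_pos.2 hei
    omega
  have h5 : ∑ i ∈ P, e i * (d i : ℤ) = 1 := by
    rw [← hed]
    exact Finset.sum_subset (Finset.filter_subset _ _)
      (fun i hi hiP => by rw [hzero i hi hiP, zero_mul])
  have hne : P.Nonempty := Finset.nonempty_of_sum_ne_zero (by rw [h5]; norm_num)
  obtain ⟨i, hi⟩ := hne
  have h6 : e i * (d i : ℤ) ≤ ∑ k ∈ P, e k * (d k : ℤ) :=
    Finset.single_le_sum (fun k hk => mul_nonneg (Finset.mem_filter.1 hk).2.le (by positivity)) hi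
  rw [hP, Finset.mem_filter, Finset.mem_erase] at hi
  have h7 := hd2le i hi.1.1
  have h8 : (1 : ℤ) ≤ e i := hi.2
  rw [h5] at h6
  have h9 : (2 : ℤ) ≤ (d i : ℤ) := by exact_mod_cast h7
  nlinarith

open scoped Classical in
/-- The configuration does not occur in a simple group with one class of involutions in `S`. -/
theorem false_of_cfg [IsSimpleGroup G] (hperf : commutator G = ⊤) (h : Cfg t C K U ψ)
    (S : Subgroup G) (hS8 : Nat.card S = 8) (hcl : ∀ s ∈ S, s ≠ 1 → IsConj t s) : False := by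
  haveI : Fintype S := Fintype.ofFinite _
  choose n hn using fun i χ => h.exists_int i χ
  choose d hd using fun χ : IrrCharacter G => Char.irr_one_pos χ.2
  have hsum : ∀ χ : IrrCharacter G, (n 0 χ ≠ 0 ∨ n 1 χ ≠ 0) →
      (χ : G → ℂ) t = ((-(n 0 χ + n 1 χ + n 2 χ) : ℤ) : ℂ) := by
    intro χ hne
    rcases h.value χ with h0 | h0
    · have a := h0 0 (by norm_num)
      have b := h0 1 (by norm_num)
      rw [hn] at a b
      norm_cast at a b
      exact absurd hne (by simp [a, b])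
    · rw [hn, hn, hn] at h0
      push_cast
      linear_combination h0
  choose l hlint hlval using fun χ : IrrCharacter G =>
    (show ∃ l : ℤ, ((n 0 χ ≠ 0 ∨ n 1 χ ≠ 0) → l = -(n 0 χ + n 1 χ + n 2 χ)) ∧
        (n 0 χ ≠ 0 ∨ n 1 χ ≠ 0 → (χ : G → ℂ) t = (l : ℂ)) from
      ⟨-(n 0 χ + n 1 χ + n 2 χ), fun _ => rfl, hsum χ⟩)
  set o := Char.trivialIrr G
  have ho1 : (o : G → ℂ) t = 1 := rfl
  have hn0 : n 0 o = -1 := by
    have := (hn 0 o).symm.trans (h.cval_trivial 0)
    rw [if_pos (dvd_zero 3)] at this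
    exact_mod_cast this
  have hn1 : n 1 o = 0 := by
    have := (hn 1 o).symm.trans (h.cval_trivial 1)
    rw [if_neg (by norm_num)] at this
    exact_mod_cast this
  have hlo : l o = 1 := by
    have := (hlval o (Or.inl (by omega))).symm.trans ho1
    exact_mod_cast this
  have hdo : d o = 1 := by
    have := (hd o).2.symm.trans (show (o : G → ℂ) 1 = 1 from rfl)
    exact_mod_cast this
  have hgram : ∀ i j, ∑ χ : IrrCharacter G, n i χ * n j χ = if 3 ∣ 2 * i + j then 4 else 2 := by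
    intro i j
    have hg := h.gram i j
    simp only [hn, map_intCast] at hg
    apply Int.cast_injective (α := ℂ)
    push_cast
    rw [hg]
  have hdeg : ∀ i, ∑ χ : IrrCharacter G, n i χ * (d χ : ℤ) = 0 := by
    intro i
    have hg := h.sum_degree i
    simp only [hn, fun χ => (hd χ).2] at hg
    exact_mod_cast hg
  refine false_of_numerics o (n 0) (n 1) (n 2) l d ⟨hn0, hn1, hlo, hdo⟩
    (by rw [hgram, if_pos (by norm_num)]) (by rw [hgram, if_pos (by norm_num)])
    (by rw [hgram, if_neg (by norm_num)]) (by rw [hgram, if_pos (by norm_num)])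
    (hdeg 0) (hdeg 1) (hdeg 2) ?_ (fun χ => (hd χ).1)
    (fun χ hχ => CycPairs.two_le_degree hperf χ hχ (hd χ).2) hlint ?_
  · have hg := h.sum_sq 1
    have hterm : ∀ i, i < 2 → ∀ χ : IrrCharacter G,
        cval t C U ψ i χ * (χ : G → ℂ) t ^ 2 / (χ : G → ℂ) 1
          = (((n i χ : ℝ) * (l χ : ℝ) ^ 2 / d χ : ℝ) : ℂ) := by
      intro i hi χ
      rw [hn, (hd χ).2]
      by_cases h0 : n i χ = 0
      · simp [h0]
      · rw [hlval χ (by interval_cases i <;> simp [h0])]
        push_cast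
        rfl
    rw [Finset.sum_congr rfl (fun χ _ => hterm 1 (by norm_num) χ),
      Finset.sum_congr rfl (fun χ _ => hterm 0 (by norm_num) χ)] at hg
    exact_mod_cast hg
  · intro χ hne hχ
    obtain ⟨a, ha⟩ := Char.isCharacter_classInner_nat
      (Char.isCharacter_restrict (Char.isCharacter_of_irr χ.2) S) (Char.trivialIrr S)
    have hval : ((d χ : ℤ) + 7 * l χ : ℤ) = 8 * (a : ℤ) := by
      have h1 : ∑ s : S, (χ : G → ℂ) s = (8 : ℂ) * a := by
        rw [← ha, classInner, hS8]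
        push_cast
        rw [← mul_assoc, mul_inv_cancel₀ (by norm_num : (8 : ℂ) ≠ 0), one_mul]
        refine Finset.sum_congr rfl fun s _ => ?_
        show _ = _ * conj (1 : ℂ)
        rw [map_one, mul_one]
      have h2 : ∑ s : S, (χ : G → ℂ) s = (d χ : ℂ) + 7 * (l χ : ℂ) := by
        rw [← Finset.sum_erase_add _ _ (Finset.mem_univ (1 : S)),
          Finset.sum_congr rfl (g := fun _ => (l χ : ℂ)) (fun s hs => ?_), Finset.sum_const,
          Finset.card_erase_of_mem (Finset.mem_univ _), Finset.card_univ,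
          ← Nat.card_eq_fintype_card, hS8, nsmul_eq_mul, OneMemClass.coe_one, (hd χ).2]
        · norm_num; ring
        · rw [← hlval χ hne]
          exact (Char.isClassFunction_eq_of_isConj (Char.irr_isClassFunction χ.2)
            (hcl s s.2 (fun e => Finset.ne_of_mem_erase hs (Subtype.ext e)))).symm
      have h3 := h1.symm.trans h2
      exact_mod_cast h3.symm
    refine ⟨⟨(a : ℤ) - l χ, by linarith⟩, by omega, fun hdl => hχ ?_⟩
    refine CycPairs.eq_trivial_of_value (g := t) (fun e => by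
      have := h.ht; rw [e, orderOf_one] at this; norm_num at this) χ ?_
    rw [hlval χ hne, (hd χ).2, ← hdl]
    norm_num

end Cfsg.Agent.EightAuto
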